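import Mathlib

/-!
# HUB BR, orthogonal groups of odd characteristic: the module `so(V)` (helper621)

`B` a symmetric nondegenerate form on the `K`-space `V`.
* `rt B x y : z ↦ B y z • x - B x z • y`;
* `so B` : the skew endomorphisms;
* `bracket_rt` : `[X, rt x y] = rt (X x) y + rt x (X y)` for `X ∈ so B`;
* `mem_of_rt` : a subspace which contains all `rt x y` contains `so B`;
* `soBasis`, `finrank_so` : the basis `rt (b i) (b j)`, `i < j`, of `so B`; the dimension.
-/

set_option autoImplicit false

namespace Cfsg.Agent.H621.BR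

open Module

variable {K : Type*} [Field K] {V : Type*} [AddCommGroup V] [Module K V] (B : LinearMap.BilinForm K V)

/-- the elements `x ∧ y` of `so(V)` -/
def rt (x y : V) : Module.End K V := (B y).smulRight x - (B x).smulRight y

theorem rt_apply (x y z : V) : rt B x y z = B y z • x - B x z • y := rfl

theorem rt_self (x : V) : rt B x x = 0 := by
  ext z
  rw [rt_apply, sub_self]
  rfl

theorem rt_swap (x y : V) : rt B y x = - rt B x y := by
  ext z
  rw [LinearMap.neg_apply, rt_apply, rt_apply, neg_sub]

theorem rt_add_left (x x' y : V) : rt B (x + x') y = rt B x y + rt B x' y := by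
  ext z
  rw [LinearMap.add_apply, rt_apply, rt_apply, rt_apply, map_add, LinearMap.add_apply]
  module

theorem rt_smul_left (c : K) (x y : V) : rt B (c • x) y = c • rt B x y := by
  ext z
  rw [LinearMap.smul_apply, rt_apply, rt_apply, map_smul, LinearMap.smul_apply, smul_eq_mul]
  module

theorem rt_add_right (x y y' : V) : rt B x (y + y') = rt B x y + rt B x y' := by
  rw [rt_swap B (y + y') x, rt_add_left, rt_swap B y x, rt_swap B y' x]
  abel

theorem rt_smul_right (c : K) (x y : V) : rt B x (c • y) = c • rt B x y := by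
  rw [rt_swap B (c • y) x, rt_smul_left, rt_swap B y x, smul_neg]

/-- the bilinear map `(x, y) ↦ rt x y` -/
def rtHom : V →ₗ[K] V →ₗ[K] Module.End K V :=
  LinearMap.mk₂ K (rt B) (rt_add_left B) (rt_smul_left B) (rt_add_right B) (rt_smul_right B)

@[simp] theorem rtHom_apply (x y : V) : rtHom B x y = rt B x y := rfl

theorem rt_sub_left (x x' y : V) : rt B (x - x') y = rt B x y - rt B x' y := by
  simp only [← rtHom_apply, map_sub, LinearMap.sub_apply]

theorem rt_sub_right (x y y' : V) : rt B x (y - y') = rt B x y - rt B x y' := by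
  simp only [← rtHom_apply, map_sub]

theorem rt_neg_right (x y : V) : rt B x (-y) = - rt B x y := by
  simp only [← rtHom_apply, map_neg]

/-- the skew endomorphisms -/
def so : Submodule K (Module.End K V) where
  carrier := {X | ∀ v w, B (X v) w = - B v (X w)}
  zero_mem' := fun v w => by simp
  add_mem' := fun {X Y} hX hY v w => by
    rw [LinearMap.add_apply, LinearMap.add_apply, map_add, map_add, LinearMap.add_apply, hX, hY]
    ring
  smul_mem' := fun c X hX v w => by
    rw [LinearMap.smul_apply, LinearMap.smul_apply, map_smul, map_smul, LinearMap.smul_apply, hX, smul_eq_mul,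
      smul_eq_mul]
    ring

theorem mem_so {X : Module.End K V} : X ∈ so B ↔ ∀ v w, B (X v) w = - B v (X w) := Iff.rfl

variable {B}
variable (hs : ∀ x y, B x y = B y x)

include hs

theorem rt_mem_so (x y : V) : rt B x y ∈ so B := by
  intro v w
  rw [rt_apply, rt_apply, map_sub, map_smul, map_smul, map_sub, map_smul, map_smul, LinearMap.sub_apply,
    LinearMap.smul_apply, LinearMap.smul_apply, smul_eq_mul, smul_eq_mul, smul_eq_mul, smul_eq_mul, hs v x, hs v y]
  ring

omit hs in
theorem bracket_rt {X : Module.End K V} (hX : X ∈ so B) (x y : V) :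
    X * rt B x y - rt B x y * X = rt B (X x) y + rt B x (X y) := by
  ext z
  rw [LinearMap.sub_apply, Module.End.mul_apply, Module.End.mul_apply, LinearMap.add_apply, rt_apply, rt_apply,
    rt_apply, rt_apply, map_sub, map_smul, map_smul, hX x z, hX y z]
  module

omit hs in
/-- conjugation by an isometry -/
theorem conj_rt {g h : Module.End K V} (hgh : ∀ v, g (h v) = v) (hg : ∀ v w, B (g v) (g w) = B v w) (x y : V) :
    g * rt B x y * h = rt B (g x) (g y) := by
  ext z
  have h1 : ∀ v, B (g v) z = B v (h z) := fun v => by rw [← hg v (h z), hgh]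
  rw [Module.End.mul_apply, Module.End.mul_apply, rt_apply, rt_apply, map_sub, map_smul, map_smul, h1, h1]

omit hs in
/-- `a X a` for `a = rt x y` -/
theorem rt_mul_mul (X : Module.End K V) (x y z : V) :
    (rt B x y * X * rt B x y) z =
      (B y z * B y (X x) - B x z * B y (X y)) • x - (B y z * B x (X x) - B x z * B x (X y)) • y := by
  rw [Module.End.mul_apply, Module.End.mul_apply, rt_apply, rt_apply]
  simp only [map_sub, map_smul, smul_eq_mul]

theorem skew_self (h2 : (2 : K) ≠ 0) {X : Module.End K V} (hX : X ∈ so B) (x : V) : B x (X x) = 0 := by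
  have h1 := hX x x
  rw [hs (X x) x] at h1
  have h3 : (2 : K) * B x (X x) = 0 := by linear_combination h1
  exact (mul_eq_zero.1 h3).resolve_left h2

/-- `a X a = B (y, X x) a` for skew `X` -/
theorem rt_mul_mul_skew (h2 : (2 : K) ≠ 0) {X : Module.End K V} (hX : X ∈ so B) (x y : V) :
    rt B x y * X * rt B x y = B y (X x) • rt B x y := by
  ext z
  rw [rt_mul_mul, skew_self hs h2 hX x, skew_self hs h2 hX y, LinearMap.smul_apply, rt_apply, hs x (X y), hX y x]
  module

section Basis

variable {ι : Type*} [Fintype ι] [DecidableEq ι] (b : Basis ι K V) (hB : B.Nondegenerate)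

omit hs in
theorem sum_dual (x : V) : ∑ i, B x (b i) • B.dualBasis hB b i = x := by
  conv_rhs => rw [← (B.dualBasis hB b).sum_repr x]
  simp only [LinearMap.BilinForm.dualBasis_repr_apply]

omit hs in
theorem sum_dual' (x : V) : ∑ i, B (B.dualBasis hB b i) x • b i = x := by
  have h1 : ∀ i, B (B.dualBasis hB b i) x = b.repr x i := by
    intro i
    conv_lhs => rw [← b.sum_repr x]
    rw [map_sum]
    simp only [map_smul, LinearMap.BilinForm.apply_dualBasis_left, smul_eq_mul, mul_ite, mul_one, mul_zero]
    rw [Finset.sum_ite_eq' Finset.univ i]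
    simp
  simp only [h1]
  exact b.sum_repr x

/-- a skew endomorphism is a sum of elements `rt x y` -/
theorem two_smul_eq {X : Module.End K V} (hX : X ∈ so B) :
    (2 : K) • X = ∑ i, rt B (X (b i)) (B.dualBasis hB b i) := by
  ext z
  rw [LinearMap.sum_apply, LinearMap.smul_apply]
  simp only [rt_apply]
  rw [Finset.sum_sub_distrib]
  have h1 : ∑ i, B (B.dualBasis hB b i) z • X (b i) = X z := by
    conv_rhs => rw [← sum_dual' b hB z, map_sum]
    simp only [map_smul]
  have h2 : ∑ i, B (X (b i)) z • B.dualBasis hB b i = - X z := by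
    have h3 : ∀ i, B (X (b i)) z = - B (X z) (b i) := fun i => by rw [hX, hs (b i)]
    simp only [h3, neg_smul, Finset.sum_neg_distrib]
    rw [sum_dual b hB]
  rw [h1, h2]
  module

include b hB in
/-- **a subspace which contains all `rt x y` contains `so B`** -/
theorem mem_of_rt (h2 : (2 : K) ≠ 0) {S : Submodule K (Module.End K V)} (hS : ∀ x y, rt B x y ∈ S)
    {X : Module.End K V} (hX : X ∈ so B) : X ∈ S := by
  have h1 : (2 : K) • X ∈ S := by
    rw [two_smul_eq hs b hB hX]
    exact Submodule.sum_mem _ fun i _ => hS _ _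
  have h3 := S.smul_mem (2 : K)⁻¹ h1
  rwa [smul_smul, inv_mul_cancel₀ h2, one_smul] at h3

end Basis

section Dim

variable {n : ℕ} (b : Basis (Fin n) K V) (hB : B.Nondegenerate)

include hB in
theorem linearIndependent_rt :
    LinearIndependent K fun p : {p : Fin n × Fin n // p.1 < p.2} => rt B (b p.1.1) (b p.1.2) := by
  classical
  rw [Fintype.linearIndependent_iff]
  rintro g hg ⟨⟨i, k⟩, hik⟩
  have hik' : i < k := hik
  have h1 := congrArg (fun X : Module.End K V => b.repr (X (B.dualBasis hB b k)) i) hg
  simp only [LinearMap.sum_apply, LinearMap.smul_apply, rt_apply, map_sum, Finsupp.coe_finsetSum, Finset.sum_apply,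
    map_smul, map_sub, Finsupp.smul_apply, Finsupp.sub_apply, smul_eq_mul, Basis.repr_self,
    LinearMap.zero_apply, map_zero, Finsupp.coe_zero, Pi.zero_apply] at h1
  rw [Finset.sum_eq_single ⟨⟨i, k⟩, hik⟩] at h1
  · simp only [Finsupp.single_apply] at h1
    rw [hs (b k), LinearMap.BilinForm.apply_dualBasis_left, if_pos rfl, if_neg hik'.ne'] at h1
    simpa using h1
  · rintro ⟨⟨i', k'⟩, hik2⟩ - hne
    have hik2' : i' < k' := hik2
    simp only [Finsupp.single_apply]
    rw [hs (b k'), hs (b i'), LinearMap.BilinForm.apply_dualBasis_left, LinearMap.BilinForm.apply_dualBasis_left]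
    by_cases e1 : k' = k
    · have e2 : i' ≠ i := by
        rintro rfl
        exact hne (by subst e1; rfl)
      have e3 : i' ≠ k := by
        rintro rfl
        rw [e1] at hik2'
        exact lt_irrefl _ hik2'
      rw [if_neg e2, if_neg e3]
      ring
    · by_cases e4 : i' = k
      · have e5 : k' ≠ i := by
          rintro rfl
          rw [e4] at hik2'
          exact lt_asymm hik' hik2'
        rw [if_neg e1, if_neg e5]
        ring
      · rw [if_neg e1, if_neg e4]
        ring
  · intro h
    exact absurd (Finset.mem_univ _) h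

include b hB in
theorem span_rt (h2 : (2 : K) ≠ 0) :
    Submodule.span K (Set.range fun p : {p : Fin n × Fin n // p.1 < p.2} => rt B (b p.1.1) (b p.1.2)) = so B := by
  classical
  apply le_antisymm
  · rw [Submodule.span_le]
    rintro _ ⟨p, rfl⟩
    exact rt_mem_so hs _ _
  · intro X hX
    refine mem_of_rt hs b hB h2 (fun x y => ?_) hX
    set S := Submodule.span K (Set.range fun p : {p : Fin n × Fin n // p.1 < p.2} => rt B (b p.1.1) (b p.1.2)) with hS
    have h1 : ∀ i j, rt B (b i) (b j) ∈ S := by
      intro i j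
      rcases lt_trichotomy i j with h | h | h
      · exact Submodule.subset_span ⟨⟨(i, j), h⟩, rfl⟩
      · rw [h, rt_self]
        exact S.zero_mem
      · rw [rt_swap B (b j) (b i)]
        exact S.neg_mem (Submodule.subset_span ⟨⟨(j, i), h⟩, rfl⟩)
    rw [← rtHom_apply, ← b.sum_repr x, ← b.sum_repr y]
    simp only [map_sum, map_smul, LinearMap.sum_apply, LinearMap.smul_apply, rtHom_apply]
    exact Submodule.sum_mem _ fun i _ => Submodule.smul_mem _ _ (Submodule.sum_mem _ fun j _ =>
      Submodule.smul_mem _ _ (h1 _ _))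

/-- the basis `rt (b i) (b j)`, `i < j`, of `so B` -/
noncomputable def soBasis (h2 : (2 : K) ≠ 0) : Basis {p : Fin n × Fin n // p.1 < p.2} K (so B) :=
  (Basis.span (linearIndependent_rt hs b hB)).map (LinearEquiv.ofEq _ _ (span_rt hs b hB h2))

theorem soBasis_apply (h2 : (2 : K) ≠ 0) (p : {p : Fin n × Fin n // p.1 < p.2}) :
    (soBasis hs b hB h2 p : Module.End K V) = rt B (b p.1.1) (b p.1.2) := by
  rw [soBasis, Basis.map_apply, LinearEquiv.coe_ofEq_apply, Basis.span_apply]

omit [Field K] [AddCommGroup V] [Module K V] hs in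
theorem card_pairs : Fintype.card {p : Fin n × Fin n // p.1 < p.2} = n * (n - 1) / 2 := by
  have e : {p : Fin n × Fin n // p.1 < p.2} ≃ Σ j : Fin n, {i : Fin n // i < j} :=
    { toFun := fun p => ⟨p.1.2, ⟨p.1.1, p.2⟩⟩
      invFun := fun q => ⟨(q.2.1, q.1), q.2.2⟩
      left_inv := fun _ => rfl
      right_inv := fun _ => rfl }
  rw [Fintype.card_congr e, Fintype.card_sigma]
  have h1 : ∀ j : Fin n, Fintype.card {i : Fin n // i < j} = j := by
    intro j
    rw [Fintype.card_subtype]
    have h2 : Finset.univ.filter (fun i : Fin n => i < j) = Finset.Iio j := by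
      ext i
      simp
    rw [h2, Fin.card_Iio]
  simp only [h1]
  rw [Fin.sum_univ_eq_sum_range (fun i => i) n, Finset.sum_range_id]

include b hB in
/-- **the dimension of `so B`** -/
theorem finrank_so (h2 : (2 : K) ≠ 0) : finrank K (so B) = n * (n - 1) / 2 := by
  rw [finrank_eq_card_basis (soBasis hs b hB h2), card_pairs]

end Dim

end Cfsg.Agent.H621.BR
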